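import Groth.Prelude.Def_AlphaP
import Groth.Prelude.Def_ConstGrp
import Groth.Prelude.Def_CartDual
import Groth.Prelude.Def_Versch
import Mathlib.RingTheory.Bialgebra.MonoidAlgebra
import Mathlib.RingTheory.HopfAlgebra.MonoidAlgebra
import Mathlib.RingTheory.Bialgebra.Equiv
import Mathlib.Algebra.CharP.Lemmas
import Mathlib.Data.ZMod.Basic
import Mathlib.Algebra.Field.ZMod

/-!
# Cartier duality of the small standard group schemes
-/

set_option autoImplicit false
universe u v w

open TensorProduct

namespace Groth.Agent.CartDual23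

/-- If every `p`-th power is a scalar, idempotents of counit one are `1`. -/
lemma eq_one_of_idem {R : Type u} [CommRing R] {A : Type v} [CommRing A] [Bialgebra R A] {p : ℕ}
    (hp : p ≠ 0) (hA : ∀ z : A, z ^ p = algebraMap R A (Coalgebra.counit (R := R) z ^ p))
    {z : A} (hz : IsIdempotentElem z) (hε : Coalgebra.counit (R := R) z = 1) : z = 1 := by
  obtain ⟨n, rfl⟩ := Nat.exists_eq_succ_of_ne_zero hp
  rw [← hz.pow_succ_eq n, hA, hε, one_pow, map_one]

/-- Construct a bialgebra isomorphism from an algebra equivalence preserving comul and counit. -/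
noncomputable def mkEquiv {R : Type u} [CommRing R] {A : Type v} [Semiring A] [Bialgebra R A]
    {B : Type w} [Semiring B] [Bialgebra R B] (e : A ≃ₐ[R] B)
    (hε : ∀ a, Coalgebra.counit (R := R) (e a) = Coalgebra.counit (R := R) a)
    (hΔ : ∀ a, TensorProduct.map e.toLinearMap e.toLinearMap (Coalgebra.comul a) =
      Coalgebra.comul (R := R) (e a)) : A ≃ₐc[R] B :=
  BialgEquiv.ofAlgEquiv e (AlgHom.ext hε) (AlgHom.ext hΔ)

section GroupAlgebra

variable {R : Type u} [CommRing R] {G : Type v}

/-- The coefficient functional. -/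
noncomputable def mcf (g : G) : MonoidAlgebra R G →ₗ[R] R :=
  Finsupp.lapply g ∘ₗ (MonoidAlgebra.coeffLinearEquiv R).toLinearMap

@[simp] lemma mcf_apply (g : G) (z : MonoidAlgebra R G) : mcf g z = z.coeff g := rfl

variable [Group G]

lemma comul_single_one (g : G) :
    Coalgebra.comul (R := R) (MonoidAlgebra.single g (1 : R)) =
      MonoidAlgebra.single g (1 : R) ⊗ₜ[R] MonoidAlgebra.single g (1 : R) := by simp

/-- A group algebra has no nonzero primitive element. -/
lemma eq_zero_of_primitive (z : MonoidAlgebra R G)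
    (hz : Coalgebra.comul (R := R) z = z ⊗ₜ[R] 1 + 1 ⊗ₜ[R] z) : z = 0 := by
  classical
  ext g
  let T : MonoidAlgebra R G ⊗[R] MonoidAlgebra R G →ₗ[R] R :=
    (TensorProduct.lid R R).toLinearMap ∘ₗ TensorProduct.map (mcf g) (mcf g)
  have h1 : T ∘ₗ Coalgebra.comul = mcf g := by
    refine MonoidAlgebra.lhom_ext' fun h => ?_
    ext
    by_cases hh : h = g <;> simp [T, Finsupp.single_apply, hh]
  have h2 : T (z ⊗ₜ[R] 1 + 1 ⊗ₜ[R] z) =
      (1 : MonoidAlgebra R G).coeff g * z.coeff g + z.coeff g * (1 : MonoidAlgebra R G).coeff g := by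
    simp [T, mul_comm]
  have h3 := LinearMap.congr_fun h1 z
  rw [LinearMap.comp_apply, hz, h2] at h3
  rw [MonoidAlgebra.coeff_zero, Finsupp.zero_apply]
  rw [mcf_apply, MonoidAlgebra.one_def, MonoidAlgebra.coeff_single, Finsupp.single_apply] at h3
  split_ifs at h3
  · simpa using h3
  · simpa using h3.symm

end GroupAlgebra

section ZModP

variable (p : ℕ) [hp : Fact p.Prime] (R : Type u) [CommRing R] [CharP R p]

/-- `p`-th powers in the group algebra of `ℤ/p` are scalars. -/
lemma monoidAlgebra_pow_p (z : MonoidAlgebra R (Multiplicative (ZMod p))) :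
    z ^ p = algebraMap R _ (Coalgebra.counit (R := R) z ^ p) := by
  haveI : CharP (MonoidAlgebra R (Multiplicative (ZMod p))) p :=
    charP_of_injective_algebraMap (Bialgebra.algebraMap_injective (R := R) _) p
  induction z using MonoidAlgebra.induction_linear with
  | zero => simp [zero_pow hp.out.ne_zero]
  | add a b ha hb => rw [add_pow_char, ha, hb, map_add, add_pow_char, map_add]
  | single g r =>
    have hg : g ^ p = 1 := by
      apply Multiplicative.toAdd.injective
      simp [CharP.cast_eq_zero (ZMod p) p]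
    simp [MonoidAlgebra.single_pow, hg]

lemma alphaP_pow_p (z : AlphaP.A p R) :
    z ^ p = algebraMap R _ (Coalgebra.counit (R := R) z ^ p) := by
  obtain ⟨f, rfl⟩ := AlphaP.mk_surjective p R z
  induction f using Polynomial.induction_on' with
  | add a b ha hb => rw [map_add, add_pow_char, ha, hb, map_add, add_pow_char, map_add]
  | monomial n r =>
    rw [← Polynomial.C_mul_X_pow_eq_monomial, map_mul, map_pow, AlphaP.mk_X,
      ← Polynomial.algebraMap_eq, AlgHom.commutes, Bialgebra.counit_mul, Bialgebra.counit_pow,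
      AlphaP.counit_x, mul_pow, mul_pow, ← pow_mul, mul_comm n p, pow_mul, AlphaP.x_pow, map_mul,
      ← map_pow]
    rcases Nat.eq_zero_or_pos n with rfl | hn
    · simp
    · simp [zero_pow hn.ne', zero_pow hp.out.ne_zero]

lemma isEmpty_equiv_constGrp {B : Type v} [CommRing B] [Bialgebra R B]
    (hB : ∀ z : B, z ^ p = algebraMap R B (Coalgebra.counit (R := R) z ^ p)) :
    IsEmpty (ConstGrp.F R (Multiplicative (ZMod p)) ≃ₐc[R] B) := by
  classical
  haveI : Nontrivial R := CharP.nontrivial_of_char_ne_one hp.out.ne_one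
  refine ⟨fun e => ?_⟩
  let z : ConstGrp.F R (Multiplicative (ZMod p)) := ConstGrp.e R (1 : Multiplicative (ZMod p))
  have hid : IsIdempotentElem z := by
    show z * z = z
    simp [z, ConstGrp.e_mul_e]
  have hεe : Coalgebra.counit (R := R) (e z) = 1 := by
    rw [CoalgHomClass.counit_comp_apply e z]
    simp [z]
  have h1 : e z = 1 := eq_one_of_idem hp.out.ne_zero hB (hid.map e) hεe
  have h2 : z = 1 := EquivLike.injective e (h1.trans (map_one e).symm)
  have h3 := congrArg (fun f : ConstGrp.F R _ => f (Multiplicative.ofAdd (1 : ZMod p))) h2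
  have hne : (Multiplicative.ofAdd (1 : ZMod p)) ≠ 1 := by simp
  simp only [z, ConstGrp.e_apply, if_neg hne, ConstGrp.one_apply] at h3
  exact zero_ne_one h3

end ZModP

section AlphaCoeff

variable (p : ℕ) [hp : Fact p.Prime] (R : Type u) [CommRing R] [CharP R p]

/-- Coefficient of `x ^ i` in `R[X]/(X^p)`. -/
noncomputable def cf (i : Fin p) : AlphaP.A p R →ₗ[R] R :=
  haveI : Nontrivial R := CharP.nontrivial_of_char_ne_one hp.out.ne_one
  (AlphaP.basis p R).coord i

lemma cf_pow (i : Fin p) (n : ℕ) :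
    cf p R i (AlphaP.x p R ^ n) = if n = (i : ℕ) then 1 else 0 := by
  haveI : Nontrivial R := CharP.nontrivial_of_char_ne_one hp.out.ne_one
  rcases lt_or_ge n p with h | h
  · have : AlphaP.x p R ^ n = AlphaP.basis p R ⟨n, h⟩ := by rw [AlphaP.basis_apply]
    rw [this, cf, Module.Basis.coord_apply, Module.Basis.repr_self, Finsupp.single_apply]
    simp [Fin.ext_iff]
  · rw [AlphaP.x_pow_of_le p R h, map_zero, if_neg]
    exact fun e => absurd i.2 (by omega)

lemma eq_sum_cf (z : AlphaP.A p R) : z = ∑ i, cf p R i z • AlphaP.x p R ^ (i : ℕ) := by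
  haveI : Nontrivial R := CharP.nontrivial_of_char_ne_one hp.out.ne_one
  conv_lhs => rw [← (AlphaP.basis p R).sum_repr z]
  simp [cf]

/-- Coefficient of `x^a ⊗ x^b`. -/
noncomputable def cf₂ (a b : Fin p) : AlphaP.A p R ⊗[R] AlphaP.A p R →ₗ[R] R :=
  (TensorProduct.lid R R).toLinearMap ∘ₗ TensorProduct.map (cf p R a) (cf p R b)

@[simp] lemma cf₂_tmul (a b : Fin p) (u v : AlphaP.A p R) :
    cf₂ p R a b (u ⊗ₜ v) = cf p R a u * cf p R b v := by simp [cf₂]

lemma comul_x_pow (n : ℕ) :
    Coalgebra.comul (R := R) (AlphaP.x p R ^ n) = ∑ j ∈ Finset.range (n + 1),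
      (n.choose j : R) • ((AlphaP.x p R ^ j) ⊗ₜ[R] (AlphaP.x p R ^ (n - j))) := by
  rw [Bialgebra.comul_pow, AlphaP.comul_x, add_pow]
  refine Finset.sum_congr rfl fun j _ => ?_
  rw [Algebra.TensorProduct.tmul_pow, Algebra.TensorProduct.tmul_pow, one_pow, one_pow,
    Algebra.TensorProduct.tmul_mul_tmul, one_mul, mul_one, Nat.cast_smul_eq_nsmul, nsmul_eq_mul,
    mul_comm]

lemma cf₂_comul_x_pow (a b : Fin p) (n : ℕ) :
    cf₂ p R a b (Coalgebra.comul (R := R) (AlphaP.x p R ^ n)) =
      if n = (a : ℕ) + b then (n.choose a : R) else 0 := by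
  rw [comul_x_pow, map_sum]
  simp only [map_smul, cf₂_tmul, cf_pow, smul_eq_mul, mul_ite, mul_one, mul_zero, ite_mul, zero_mul]
  by_cases h : n = (a : ℕ) + b
  · rw [Finset.sum_eq_single (a : ℕ)]
    · rw [if_pos (by omega), if_pos rfl, if_pos h]
    · intro j _ hj
      simp [hj]
    · intro ha; simp at ha; omega
  · rw [if_neg h]
    refine Finset.sum_eq_zero fun j hj => ?_
    simp only [Finset.mem_range] at hj
    split_ifs <;> first | rfl | omega

lemma cf₂_comul (a b : Fin p) (z : AlphaP.A p R) :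
    cf₂ p R a b (Coalgebra.comul (R := R) z) =
      if h : (a : ℕ) + b < p then
        (((a : ℕ) + b).choose a : R) * cf p R ⟨(a : ℕ) + b, h⟩ z else 0 := by
  conv_lhs => rw [eq_sum_cf p R z]
  simp only [map_sum, map_smul, cf₂_comul_x_pow, smul_eq_mul, mul_ite, mul_zero]
  split_ifs with h
  · rw [Finset.sum_eq_single (⟨(a : ℕ) + b, h⟩ : Fin p)]
    · simp [mul_comm]
    · intro j _ hj
      rw [if_neg]
      exact fun e => hj (Fin.ext e)
    · intro hh; exact absurd (Finset.mem_univ _) hh
  · refine Finset.sum_eq_zero fun j _ => ?_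
    rw [if_neg]
    omega

lemma primitive_eq_smul {z : AlphaP.A p R}
    (hz : Coalgebra.comul (R := R) z = z ⊗ₜ[R] 1 + 1 ⊗ₜ[R] z) :
    ∃ c : R, z = c • AlphaP.x p R := by
  let i0 : Fin p := ⟨0, hp.out.pos⟩
  let i1 : Fin p := ⟨1, hp.out.one_lt⟩
  refine ⟨cf p R i1 z, ?_⟩
  conv_lhs => rw [eq_sum_cf p R z]
  rw [Finset.sum_eq_single i1]
  · simp [i1]
  · intro j _ hj
    suffices cf p R j z = 0 by simp [this]
    have hone : ∀ i : Fin p, cf p R i 1 = if (0 : ℕ) = (i : ℕ) then 1 else 0 := fun i => by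
      rw [← pow_zero (AlphaP.x p R), cf_pow]
    by_cases hj0 : (j : ℕ) = 0
    · have h := cf₂_comul p R j j z
      rw [hz, dif_pos (by omega)] at h
      have e : (⟨(j : ℕ) + j, by omega⟩ : Fin p) = j := Fin.ext (by simp [hj0])
      rw [e] at h
      simpa [hone, hj0] using h
    · have hj1 : (j : ℕ) ≠ 1 := fun e => hj (Fin.ext e)
      have h := cf₂_comul p R i1 ⟨(j : ℕ) - 1, by omega⟩ z
      rw [hz, dif_pos (by simp only [i1]; omega)] at h
      have e : (⟨(i1 : ℕ) + ((j : ℕ) - 1), by simp only [i1]; omega⟩ : Fin p) = j :=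
        Fin.ext (by simp only [i1]; omega)
      simp only [e] at h
      simp only [i1] at h
      rw [show 1 + ((j : ℕ) - 1) = (j : ℕ) by omega, Nat.choose_one_right] at h
      rw [map_add, cf₂_tmul, cf₂_tmul, hone, hone] at h
      simp only [show ¬(0 = 1) by omega, show ¬(0 = (j : ℕ) - 1) by omega, if_false, mul_zero,
        zero_mul, add_zero] at h
      have hu : IsUnit ((j : ℕ) : R) := by
        have : ((j : ℕ) : R) = ZMod.castHom (dvd_refl p) R ((j : ℕ) : ZMod p) := (map_natCast _ _).symm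
        rw [this]
        refine IsUnit.map _ (isUnit_iff_ne_zero.mpr fun e => ?_)
        rw [ZMod.natCast_eq_zero_iff] at e
        exact absurd (Nat.le_of_dvd (by omega) e) (by omega)
      exact hu.mul_right_eq_zero.mp h.symm
  · intro hh; exact absurd (Finset.mem_univ _) hh

end AlphaCoeff

section Trivial

variable (p : ℕ) [Fact p.Prime] (R : Type u) [CommRing R] [CharP R p] (A : Type v) [CommRing A]
  [HopfAlgebra R A] [Module.Finite R A] [Module.Projective R A] [Coalgebra.IsCocomm R A]

/-- If `p`-th powers in the dual are scalars, the Verschiebung is trivial. -/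
lemma verschiebung_trivial (h : ∀ (x : CartDual.D R A) (a : A),
      (x ^ p) a = (x 1) ^ p * Coalgebra.counit (R := R) a)
    (v : A →+* FrobAlg.BaseChange p R A) (hv : Versch.IsVerschiebung p R A v) :
    v = ((Algebra.TensorProduct.includeRight (R := R) (A := A) (B := FrobAlg.Twist p R)).toRingHom.comp
      (FrobAlg.toTwist p R).toRingHom).comp (Bialgebra.counitAlgHom R A).toRingHom := by
  rw [Versch.isVerschiebung_iff] at hv
  ext a
  refine Versch.evTw_injective p R A fun x => ?_
  rw [hv, h]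
  show _ = Versch.evTw p R A x ((1 : A) ⊗ₜ[R] FrobAlg.toTwist p R (Coalgebra.counit (R := R) a))
  rw [Versch.evTw_tmul', map_mul]

end Trivial

end Groth.Agent.CartDual23
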